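import Groth.Agent.Lib.Lim.LocalLimit
import Groth.Agent.Lib.Lim.Basic
import Groth.Agent.Lib.TensorMod.FPConv
import Groth.Agent.Lib.TensorMod.LocFree
import Groth.Agent.Lib.Ample.GG
import Groth.Agent.S4788
import Groth.Agent.S4792

/-!
# Invertible modules over the local scheme at a point spread to a neighbourhood
-/

set_option autoImplicit false
set_option linter.style.haveILetI false
set_option backward.isDefEq.respectTransparency false

universe u

open CategoryTheory CategoryTheory.Limits AlgebraicGeometry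

namespace Groth.Agent.Lib.PicSpread53

open Groth.Agent.Lib

theorem rank_one_of_isInvertible {Y : Scheme.{u}} {L : Y.Modules} (h : PicF.IsInvertible L) :
    FlatMod.IsFinLocFreeOfRank 1 L := fun y => by
  obtain ⟨U, hy, ⟨e⟩⟩ := h y
  exact ⟨U, hy, ⟨e ≪≫ (coproductUniqueIso fun _ : Fin 1 => Coh.structureModule (↑U : Scheme.{u})).symm⟩⟩

theorem isInvertible_of_rank_one {Y : Scheme.{u}} {L : Y.Modules} (h : FlatMod.IsFinLocFreeOfRank 1 L) :
    PicF.IsInvertible L := fun y => by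
  obtain ⟨U, hy, ⟨e⟩⟩ := h y
  exact ⟨U, hy, ⟨e ≪≫ coproductUniqueIso fun _ : Fin 1 => Coh.structureModule (↑U : Scheme.{u})⟩⟩

theorem exists_spread {X S : Scheme.{u}} (f : X ⟶ S) [QuasiCompact f] [QuasiSeparated f] (s : S)
    (L : (pullback f (S.fromSpecStalk s)).Modules) (hL : PicF.IsInvertible L) :
    ∃ (V : S.Opens) (_ : s ∈ V) (L' : (↑(f ⁻¹ᵁ V) : Scheme.{u}).Modules), PicF.IsInvertible L' ∧
      ∀ (ι : pullback f (S.fromSpecStalk s) ⟶ ↑(f ⁻¹ᵁ V)),
        ι ≫ (f ⁻¹ᵁ V).ι = pullback.fst f (S.fromSpecStalk s) →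
        Nonempty ((Scheme.Modules.pullback ι).obj L' ≅ L) := by
  obtain ⟨W, hW, hsW, -⟩ := exists_isAffineOpen_mem_and_subset (x := s) (U := (⊤ : S.Opens)) trivial
  let p : PrimeSpectrum Γ(S, W) := hW.primeIdealOf ⟨s, hsW⟩
  letI : Algebra Γ(S, W) (S.presheaf.stalk s) := TopCat.Presheaf.algebra_section_stalk S.presheaf ⟨s, hsW⟩
  haveI : IsLocalization.AtPrime (S.presheaf.stalk s) p.asIdeal := hW.isLocalization_stalk ⟨s, hsW⟩
  let e := IsLocalization.algEquiv p.asIdeal.primeCompl (S.presheaf.stalk s)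
    (Localization.AtPrime p.asIdeal)
  haveI : IsIso (CommRingCat.ofHom e.toRingEquiv.toRingHom) := e.toRingEquiv.toCommRingCatIso.isIso_hom
  let g : Spec (Lim.LocalLimit.loc p) ≅ Spec (S.presheaf.stalk s) :=
    asIso (Spec.map (CommRingCat.ofHom e.toRingEquiv.toRingHom))
  let i₀ : Lim.LocalLimit.Nhd p := ⟨1, p.asIdeal.ne_top_iff_one.1 p.2.ne_top⟩
  let b : (Lim.LocalLimit.op' p i₀ : Scheme.{u}) ⟶ S := (Lim.LocalLimit.op' p i₀).ι ≫ hW.fromSpec
  haveI : IsAffine (Lim.LocalLimit.op' p i₀ : Scheme.{u}) := IsAffineOpen.Spec_basicOpen _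
  let π₀ : Spec (Lim.LocalLimit.loc p) ⟶ Lim.LocalLimit.op' p i₀ := (Lim.LocalLimit.cone p).π.app i₀
  have hπb : π₀ ≫ b = g.hom ≫ S.fromSpecStalk s := by
    have h : Spec.map (CommRingCat.ofHom e.toRingEquiv.toRingHom) ≫ S.fromSpecStalk s =
        Lim.LocalLimit.toSpec p ≫ hW.fromSpec := by
      rw [← hW.fromSpecStalk_eq_fromSpecStalk hsW]
      show Spec.map _ ≫ Spec.map (S.presheaf.germ W s hsW) ≫ hW.fromSpec = _
      rw [← Category.assoc, ← Spec.map_comp]
      congr 2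
      ext a
      exact e.commutes a
    rw [← Category.assoc]
    exact (congrArg (· ≫ hW.fromSpec) (Lim.LocalLimit.cone_π_ι p i₀)).trans h.symm
  let P := pullback f (S.fromSpecStalk s)
  let a : pullback f b ⟶ Lim.LocalLimit.op' p i₀ := pullback.snd f b
  let q : P ⟶ pullback f b := pullback.lift (pullback.fst _ _)
    (pullback.snd f (S.fromSpecStalk s) ≫ g.inv ≫ π₀)
    (by rw [Category.assoc, Category.assoc, hπb, Iso.inv_hom_id_assoc, pullback.condition])
  have sq : IsPullback q (pullback.snd f (S.fromSpecStalk s) ≫ g.inv) a π₀ := by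
    refine IsPullback.of_right ?_ ((pullback.lift_snd _ _ _).trans (Category.assoc _ _ _).symm)
      (IsPullback.of_hasPullback f b)
    rw [pullback.lift_fst]
    refine (IsPullback.of_hasPullback f (S.fromSpecStalk s)).of_iso (Iso.refl _) (Iso.refl _) g.symm
      (Iso.refl _) ?_ ?_ ?_ ?_
    · simp
    · simp
    · simp
    · simp [hπb]
  haveI : QuasiCompact a := MorphismProperty.pullback_snd _ _ ‹_›
  haveI : QuasiSeparated a := MorphismProperty.pullback_snd _ _ ‹_›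
  haveI : CompactSpace (pullback f b : Scheme.{u}) := QuasiCompact.compactSpace_of_compactSpace a
  haveI : QuasiSeparatedSpace (pullback f b : Scheme.{u}) := quasiSeparatedSpace_of_quasiSeparated a
  let D := Lim.LocalLimit.diag p
  haveI : ∀ {i j : Lim.LocalLimit.Nhd p} (φ : i ⟶ j), IsAffineHom (D.map φ) := fun _ => inferInstance
  let BD := Lim.Basic.bcDiagram D a
  haveI : ∀ (i j : Over i₀) (φ : i ⟶ j), IsAffineHom (BD.map φ) := fun i j φ =>
    Lim.Basic.isAffineHom_bcDiagram_map D a φ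
  let j₀ : Over i₀ := Over.mk (𝟙 i₀)
  haveI : CompactSpace (BD.obj j₀) := Lim.Basic.compactSpace_bcDiagram D a j₀
  haveI : QuasiSeparatedSpace (BD.obj j₀) := Lim.Basic.quasiSeparatedSpace_bcDiagram D a j₀
  haveI hqL : Coh.IsQCoh L := (Ample.GG.isCoh_of_isInvertible hL).1
  have hlim := Lim.Basic.isLimitBcCone (Lim.LocalLimit.isLimit p) sq
  obtain ⟨j, -, Lj, hqj, hfpj, ⟨ej⟩⟩ := Groth.Agent.S4788.result BD (Lim.Basic.bcCone sq.w) hlim j₀ L
    (TensorMod.FPConv.isFP_of_isFinLocFree fun y => ⟨_, 1, rank_one_of_isInvertible hL y |>.choose_spec.1, (rank_one_of_isInvertible hL y).choose_spec.2⟩)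
  haveI := hqj
  haveI : CompactSpace (BD.obj j) := Lim.Basic.compactSpace_bcDiagram D a j
  obtain ⟨k, φ, hk⟩ := (Groth.Agent.S4792.result BD (Lim.Basic.bcCone sq.w) hlim j Lj hfpj 1).1
    (rank_one_of_isInvertible
      (fun y => by
        obtain ⟨U, hy, ⟨eU⟩⟩ := hL y
        exact ⟨U, hy, ⟨(Scheme.Modules.restrictFunctor U.ι).mapIso ej ≪≫ eU⟩⟩))
  let bk : D.obj k.left ⟶ S := (Lim.LocalLimit.op' p k.left).ι ≫ hW.fromSpec
  have hbk : D.map k.hom ≫ b = bk := by simp [D, b, bk, Lim.LocalLimit.diag]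
  haveI : IsOpenImmersion bk := inferInstanceAs (IsOpenImmersion (_ ≫ _))
  let c : BD.obj k ⟶ X := pullback.fst a (D.map k.hom) ≫ pullback.fst f b
  have sqk : IsPullback c (pullback.snd a (D.map k.hom)) f bk := by
    rw [← hbk]
    exact (IsPullback.of_hasPullback a (D.map k.hom)).paste_horiz (IsPullback.of_hasPullback f b)
  haveI : IsOpenImmersion c := MorphismProperty.of_isPullback sqk.flip inferInstance
  let V : S.Opens := bk.opensRange
  have hr : Set.range ((f ⁻¹ᵁ V).ι ≫ f) ⊆ Set.range bk := by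
    rintro _ ⟨y, rfl⟩
    exact y.2
  let θ : (↑(f ⁻¹ᵁ V) : Scheme.{u}) ⟶ BD.obj k :=
    sqk.lift (f ⁻¹ᵁ V).ι (IsOpenImmersion.lift bk ((f ⁻¹ᵁ V).ι ≫ f) hr) (IsOpenImmersion.lift_fac _ _ _).symm
  refine ⟨V, ⟨⟨p, k.left.2⟩, hW.fromSpec_primeIdealOf ⟨s, hsW⟩⟩,
    (Scheme.Modules.pullback θ).obj ((Scheme.Modules.pullback (BD.map φ)).obj Lj),
    _root_.PicLoc.isInvertible_pullback θ (isInvertible_of_rank_one hk), fun ι hι => ⟨?_⟩⟩
  have h1 : ι ≫ θ = (Lim.Basic.bcCone sq.w).π.app k := by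
    rw [← cancel_mono c, Category.assoc, sqk.lift_fst, hι]
    refine Eq.trans ?_ (Category.assoc _ _ _)
    rw [Lim.Basic.bcCone_π_fst]
    exact (pullback.lift_fst _ _ _).symm
  exact (Scheme.Modules.pullbackComp ι θ).app _ ≪≫ (Scheme.Modules.pullbackCongr h1).app _ ≪≫
    (Scheme.Modules.pullbackComp _ (BD.map φ)).app Lj ≪≫
      (Scheme.Modules.pullbackCongr ((Lim.Basic.bcCone sq.w).w φ)).app Lj ≪≫ ej

end Groth.Agent.Lib.PicSpread53
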